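import Groth.Agent.AlgSt.K741.DiagEq
import Groth.Agent.AlgSt.K741.Conv
import Groth.Agent.AlgSt.K743.StabQA

/-!
# The automorphism sheaf of a point as a sheaf over the stack

`K394.AutCh.exists_aut`: if `G` is the automorphism group scheme of `ξ : (Sch/T) ⥤ᵇ 𝒴` then the sheaf of automorphisms of
`ξ` in the category `K741.Ch 𝒴` is represented by `G`.
-/

set_option autoImplicit false
set_option backward.isDefEq.respectTransparency false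
set_option backward.isDefEq.respectTransparency.types false
universe w v₂ u₂ v u

open CategoryTheory Opposite K734.Fib AlgebraicGeometry Limits K747 K747.Sc

namespace K394.AutCh

open K743.StabQA

variable {S : Scheme.{u}} {𝒴 : AlgSt.Cat S}
variable {T : Over S} (ξ : FibCat.overCat T ⥤ᵇ 𝒴) (G : Over T.left)

/-- the pull back of `ξ` to `G` -/
noncomputable def eCh : K741.Ch 𝒴 := K741.ofChart (BasedFunctor.comp (AlgSt.overMap (str T G)) ξ)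

/-- the first projection -/
noncomputable def l₁ : eCh ξ G ⟶ K741.ofChart ξ :=
  (⟨(AlgSp.yon S).map (str T G), 𝟙 (BasedFunctor.comp (AlgSt.toOverCat (tot T G)) (BasedFunctor.comp (AlgSt.overMap (str T G)) ξ))⟩ :
    K741.Ch.Hom (eCh ξ G) (K741.ofChart ξ))

variable [GrpObj G] (r : Gerb.AutRep ξ (Gerb.ptsGrp T G))

omit [GrpObj G] in
theorem str_eq {V V' : Over S} {g : V ⟶ tot T G} {g' : V' ⟶ tot T G} {h : V' ⟶ V} (e : h ≫ g = g') :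
    h ≫ g ≫ str T G = g' ≫ str T G := by
  rw [← e, Category.assoc]

theorem iso_natural {V V' : Over S} (g : V ⟶ tot T G) (g' : V' ⟶ tot T G) (h : V' ⟶ V) (e : h ≫ g = g')
    (e' : h ≫ g ≫ str T G = g' ≫ str T G) :
    ξ.map (Over.homMk h e' : Over.mk (g' ≫ str T G) ⟶ Over.mk (g ≫ str T G)) ≫
      (r.iso (Over.mk (g ≫ str T G)) (toPt G g)).hom.1 =
    (r.iso (Over.mk (g' ≫ str T G)) (toPt G g')).hom.1 ≫
      ξ.map (Over.homMk h e' : Over.mk (g' ≫ str T G) ⟶ Over.mk (g ≫ str T G)) := by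
  subst e
  exact (r.natural (T' := Over.mk ((h ≫ g) ≫ str T G)) (T := Over.mk (g ≫ str T G))
    (Over.homMk h e') (toPt G g)).symm

/-- the universal automorphism -/
noncomputable def cell : (eCh ξ G).x ⟶
    BasedFunctor.comp (AlgSt.ofSpMap ((AlgSp.yon S).map (str T G))) (K741.ofChart ξ).x where
  toNatTrans :=
    { app := fun o => (r.iso (Over.mk (o.sec.down ≫ str T G)) (toPt G o.sec.down)).hom.1
      naturality := fun o' o φ =>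
        iso_natural ξ G r o.sec.down o'.sec.down φ.hom (congrArg ULift.down φ.map_sec)
          (str_eq G (congrArg ULift.down φ.map_sec)) }
  isHomLift' := fun o => by
    have h := vert_of (r.iso (Over.mk (o.sec.down ≫ str T G)) (toPt G o.sec.down))
    exact h.lift (ξ.w_obj _)

/-- the second projection -/
noncomputable def l₂ : eCh ξ G ⟶ K741.ofChart ξ :=
  (⟨(AlgSp.yon S).map (str T G), cell ξ G r⟩ : K741.Ch.Hom (eCh ξ G) (K741.ofChart ξ))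

variable {ξ} in
/-- the base of a component -/
abbrev bpt {t : K741.Ch 𝒴} (a : t.F ⟶ (AlgSp.yon S).obj T) (o : (AlgSt.ofSp t.F).obj) : o.base ⟶ T :=
  (a.hom.app (op o.base) o.sec).down

/-- a component of a 2-cell -/
abbrev cmp {t : K741.Ch 𝒴} {a : t.F ⟶ (AlgSp.yon S).obj T}
    (α : t.x ⟶ BasedFunctor.comp (AlgSt.ofSpMap a) (K741.ofChart ξ).x) (o : (AlgSt.ofSp t.F).obj) :
    t.x.obj o ⟶ ξ.obj (Over.mk (bpt a o)) := α.toNatTrans.app o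

theorem cmp_vert {t : K741.Ch 𝒴} {a : t.F ⟶ (AlgSp.yon S).obj T}
    (α : t.x ⟶ BasedFunctor.comp (AlgSt.ofSpMap a) (K741.ofChart ξ).x) (o : (AlgSt.ofSp t.F).obj) :
    IsVert 𝒴 (cmp ξ α o) := IsVert.of_lift (α.isHomLift' o)

theorem cmp_isIso (h𝒴 : FibCat.IsFibGrpd 𝒴.p) {t : K741.Ch 𝒴} {a : t.F ⟶ (AlgSp.yon S).obj T}
    (α : t.x ⟶ BasedFunctor.comp (AlgSt.ofSpMap a) (K741.ofChart ξ).x) (o : (AlgSt.ofSp t.F).obj) :
    IsIso (cmp ξ α o) := K741.isIso_two_cell_app h𝒴 α o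

theorem bpt_map {t : K741.Ch 𝒴} (a : t.F ⟶ (AlgSp.yon S).obj T) {o' o : (AlgSt.ofSp t.F).obj} (φ : o' ⟶ o) :
    φ.hom ≫ bpt a o = bpt a o' := by
  have h := congrArg (fun k => k o.sec) (a.hom.naturality φ.hom.op)
  have h2 : (a.hom.app (op o'.base) (t.F.obj.map φ.hom.op o.sec)) =
      ((AlgSp.yon S).obj T).obj.map φ.hom.op (a.hom.app (op o.base) o.sec) := h
  rw [φ.map_sec] at h2
  exact (congrArg ULift.down h2).symm

theorem cmp_nat {t : K741.Ch 𝒴} {a : t.F ⟶ (AlgSp.yon S).obj T}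
    (α : t.x ⟶ BasedFunctor.comp (AlgSt.ofSpMap a) (K741.ofChart ξ).x) {o' o : (AlgSt.ofSp t.F).obj} (φ : o' ⟶ o) :
    t.x.map φ ≫ cmp ξ α o = cmp ξ α o' ≫ ξ.map (om φ.hom (bpt a o) (bpt a o') (bpt_map a φ)) :=
  α.toNatTrans.naturality φ

/-- the automorphism attached to two 2-cells -/
noncomputable def aut (h𝒴 : FibCat.IsFibGrpd 𝒴.p) {t : K741.Ch 𝒴} {a : t.F ⟶ (AlgSp.yon S).obj T}
    (α β : t.x ⟶ BasedFunctor.comp (AlgSt.ofSpMap a) (K741.ofChart ξ).x) (o : (AlgSt.ofSp t.F).obj) :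
    ξ.obj (Over.mk (bpt a o)) ⟶ ξ.obj (Over.mk (bpt a o)) :=
  have := cmp_isIso ξ h𝒴 α o
  inv (cmp ξ α o) ≫ cmp ξ β o

theorem cmp_aut (h𝒴 : FibCat.IsFibGrpd 𝒴.p) {t : K741.Ch 𝒴} {a : t.F ⟶ (AlgSp.yon S).obj T}
    (α β : t.x ⟶ BasedFunctor.comp (AlgSt.ofSpMap a) (K741.ofChart ξ).x) (o : (AlgSt.ofSp t.F).obj) :
    cmp ξ α o ≫ aut ξ h𝒴 α β o = cmp ξ β o := by
  have := cmp_isIso ξ h𝒴 α o
  exact IsIso.hom_inv_id_assoc _ _

theorem aut_vert (h𝒴 : FibCat.IsFibGrpd 𝒴.p) {t : K741.Ch 𝒴} {a : t.F ⟶ (AlgSp.yon S).obj T}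
    (α β : t.x ⟶ BasedFunctor.comp (AlgSt.ofSpMap a) (K741.ofChart ξ).x) (o : (AlgSt.ofSp t.F).obj) :
    IsVert 𝒴 (aut ξ h𝒴 α β o) := by
  have := cmp_isIso ξ h𝒴 α o
  exact (cmp_vert ξ α o).isIso_inv.comp (cmp_vert ξ β o)

theorem aut_nat (h𝒴 : FibCat.IsFibGrpd 𝒴.p) {t : K741.Ch 𝒴} {a : t.F ⟶ (AlgSp.yon S).obj T}
    (α β : t.x ⟶ BasedFunctor.comp (AlgSt.ofSpMap a) (K741.ofChart ξ).x) {o' o : (AlgSt.ofSp t.F).obj} (φ : o' ⟶ o) :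
    aut ξ h𝒴 α β o' ≫ ξ.map (om φ.hom (bpt a o) (bpt a o') (bpt_map a φ)) =
      ξ.map (om φ.hom (bpt a o) (bpt a o') (bpt_map a φ)) ≫ aut ξ h𝒴 α β o := by
  have := cmp_isIso ξ h𝒴 α o'
  rw [← cancel_epi (cmp ξ α o'), ← Category.assoc, cmp_aut, ← cmp_nat, ← Category.assoc, ← cmp_nat, Category.assoc,
    cmp_aut]

/-- the map of presheaves attached to two 2-cells -/
noncomputable def toI (h𝒴 : FibCat.IsFibGrpd 𝒴.p) {t : K741.Ch 𝒴} {a : t.F ⟶ (AlgSp.yon S).obj T}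
    (α β : t.x ⟶ BasedFunctor.comp (AlgSt.ofSpMap a) (K741.ofChart ξ).x) : t.F.obj ⟶ I h𝒴 ξ ξ where
  app V := ↾fun s => autSec h𝒴 ξ (bpt a ⟨V.unop, s⟩) (aut ξ h𝒴 α β ⟨V.unop, s⟩) (aut_vert ξ h𝒴 α β _)
  naturality V V' h := by
    ext s
    let φ : (⟨V'.unop, t.F.obj.map h s⟩ : (AlgSt.ofSp t.F).obj) ⟶ ⟨V.unop, s⟩ := ⟨h.unop, rfl⟩
    exact Eq.symm ((isoPsh_map_eq_iff h𝒴).2 ⟨bpt_map a φ, bpt_map a φ, aut_nat ξ h𝒴 α β φ⟩)

/-- a 2-cell to the pull back of `ξ` as a 2-cell to `ξ` -/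
abbrev up {t : K741.Ch 𝒴} {c : t.F ⟶ (AlgSp.yon S).obj (tot T G)}
    (γ : t.x ⟶ BasedFunctor.comp (AlgSt.ofSpMap c) (eCh ξ G).x) :
    t.x ⟶ BasedFunctor.comp (AlgSt.ofSpMap (c ≫ (AlgSp.yon S).map (str T G))) (K741.ofChart ξ).x := γ

omit [GrpObj G] in
theorem comp_l₁ {t : K741.Ch 𝒴} (c : t.F ⟶ (AlgSp.yon S).obj (tot T G))
    (γ : t.x ⟶ BasedFunctor.comp (AlgSt.ofSpMap c) (eCh ξ G).x) :
    (show t ⟶ eCh ξ G from (⟨c, γ⟩ : K741.Ch.Hom t (eCh ξ G))) ≫ l₁ ξ G =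
      (⟨c ≫ (AlgSp.yon S).map (str T G), up ξ G γ⟩ : K741.Ch.Hom t (K741.ofChart ξ)) := by
  change (⟨c ≫ (AlgSp.yon S).map (str T G), _⟩ : K741.Ch.Hom t (K741.ofChart ξ)) = _
  exact K741.Ch.hom_ext_mk fun o => Category.comp_id _

theorem comp_l₂_iff (h𝒴 : FibCat.IsFibGrpd 𝒴.p) {t : K741.Ch 𝒴} (c : t.F ⟶ (AlgSp.yon S).obj (tot T G))
    (γ : t.x ⟶ BasedFunctor.comp (AlgSt.ofSpMap c) (eCh ξ G).x)
    (β : t.x ⟶ BasedFunctor.comp (AlgSt.ofSpMap (c ≫ (AlgSp.yon S).map (str T G))) (K741.ofChart ξ).x) :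
    (show t ⟶ eCh ξ G from (⟨c, γ⟩ : K741.Ch.Hom t (eCh ξ G))) ≫ l₂ ξ G r =
      (⟨c ≫ (AlgSp.yon S).map (str T G), β⟩ : K741.Ch.Hom t (K741.ofChart ξ)) ↔
    ∀ o : (AlgSt.ofSp t.F).obj, sec h𝒴 ξ G r (c.hom.app (op o.base) o.sec).down =
      autSec h𝒴 ξ (bpt (c ≫ (AlgSp.yon S).map (str T G)) o) (aut ξ h𝒴 (up ξ G γ) β o) (aut_vert ξ h𝒴 _ _ _) := by
  have key : ∀ o : (AlgSt.ofSp t.F).obj,
      (γ.toNatTrans.app o ≫ (cell ξ G r).toNatTrans.app ((AlgSt.ofSpMap c).obj o) = β.toNatTrans.app o) ↔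
      sec h𝒴 ξ G r (c.hom.app (op o.base) o.sec).down =
        autSec h𝒴 ξ (bpt (c ≫ (AlgSp.yon S).map (str T G)) o) (aut ξ h𝒴 (up ξ G γ) β o) (aut_vert ξ h𝒴 _ _ _) := by
    intro o
    have hi := cmp_isIso ξ h𝒴 (up ξ G γ) o
    have h1 : (γ.toNatTrans.app o ≫ (cell ξ G r).toNatTrans.app ((AlgSt.ofSpMap c).obj o) = β.toNatTrans.app o) ↔
        (cell ξ G r).toNatTrans.app ((AlgSt.ofSpMap c).obj o) = aut ξ h𝒴 (up ξ G γ) β o := by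
      constructor
      · intro h
        exact ((IsIso.inv_comp_eq (cmp ξ (up ξ G γ) o)).2 h.symm).symm
      · intro h
        rw [h]
        exact cmp_aut ξ h𝒴 (up ξ G γ) β o
    rw [h1]
    constructor
    · intro h
      have h2 : (r.iso (Over.mk ((c.hom.app (op o.base) o.sec).down ≫ str T G))
        (toPt G (c.hom.app (op o.base) o.sec).down)).hom.1 = aut ξ h𝒴 (up ξ G γ) β o := h
      unfold sec
      congr 1
    · intro h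
      exact autSec_inj h
  rw [← forall_congr' key]
  constructor
  · intro h o
    have h2 := K741.Ch.Hom.congr h o
    have h3 : K741.Ch.vert (congrArg K741.Ch.Hom.a h) o = 𝟙 _ := by
      apply Stk.EltObj.hom_ext
      rfl
    rw [h3] at h2
    erw [(K741.ofChart ξ).x.toFunctor.map_id, Category.comp_id] at h2
    exact h2
  · intro h
    exact K741.Ch.hom_ext_mk h

include r in
/-- the classifying map of two 2-cells -/
theorem exists_cls (h𝒴 : FibCat.IsFibGrpd 𝒴.p) {t : K741.Ch 𝒴} {a : t.F ⟶ (AlgSp.yon S).obj T}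
    (α β : t.x ⟶ BasedFunctor.comp (AlgSt.ofSpMap a) (K741.ofChart ξ).x) :
    ∃ c : t.F ⟶ (AlgSp.yon S).obj (tot T G), c ≫ (AlgSp.yon S).map (str T G) = a ∧
      ∀ o : (AlgSt.ofSp t.F).obj, sec h𝒴 ξ G r (c.hom.app (op o.base) o.sec).down =
        autSec h𝒴 ξ (bpt a o) (aut ξ h𝒴 α β o) (aut_vert ξ h𝒴 _ _ _) := by
  let wa : t.F ⟶ (AlgSp.yon S).obj (tot T G) := ObjectProperty.homMk (toI ξ h𝒴 α β ≫ inv (autHom h𝒴 ξ G r))
  have hwa : wa.hom ≫ autHom h𝒴 ξ G r = toI ξ h𝒴 α β := by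
    change (toI ξ h𝒴 α β ≫ inv (autHom h𝒴 ξ G r)) ≫ autHom h𝒴 ξ G r = toI ξ h𝒴 α β
    rw [Category.assoc, IsIso.inv_hom_id, Category.comp_id]
  refine ⟨wa, ?_, fun o => ?_⟩
  · apply ObjectProperty.hom_ext
    change wa.hom ≫ (AlgSp.pyon S).map (str T G) = a.hom
    rw [← autHom_prI h𝒴 ξ G r, ← Category.assoc, hwa]
    rfl
  · have h1 := congrArg (fun k => k.app (op o.base) o.sec) hwa
    exact h1

omit [GrpObj G] in
theorem lift_ext (h𝒴 : FibCat.IsFibGrpd 𝒴.p) [GrpObj G] (r : Gerb.AutRep ξ (Gerb.ptsGrp T G)) {t : K741.Ch 𝒴}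
    {w w' : t ⟶ eCh ξ G} (h1 : w ≫ l₁ ξ G = w' ≫ l₁ ξ G) (h2 : w ≫ l₂ ξ G r = w' ≫ l₂ ξ G r) : w = w' := by
  refine K741.Ch.lift_unique h𝒴 (l₁ ξ G) ?_ h1
  apply ObjectProperty.hom_ext
  ext V s
  apply ULift.ext
  let o : (AlgSt.ofSp t.F).obj := ⟨V.unop, s⟩
  have e1 := K741.Ch.Hom.congr h1 o
  have e2 := K741.Ch.Hom.congr h2 o
  let g : V.unop ⟶ tot T G := (w.a.hom.app V s).down
  let g' : V.unop ⟶ tot T G := (w'.a.hom.app V s).down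
  have ht : 𝟙 V.unop ≫ g' ≫ str T G = g ≫ str T G := by
    have := congrArg (fun k => (k.hom.app V s).down) (congrArg K741.Ch.Hom.a h1)
    rw [Category.id_comp]
    exact this.symm
  let ww : t.x.obj o ⟶ ξ.obj (Over.mk (g ≫ str T G)) := w.α.toNatTrans.app o
  let ww' : t.x.obj o ⟶ ξ.obj (Over.mk (g' ≫ str T G)) := w'.α.toNatTrans.app o
  have e1' : ww ≫ ξ.map (om (𝟙 V.unop) (g' ≫ str T G) (g ≫ str T G) ht) = ww' := by
    have i1 : (w ≫ l₁ ξ G).α.toNatTrans.app o = w.α.toNatTrans.app o := Category.comp_id _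
    have i2 : (w' ≫ l₁ ξ G).α.toNatTrans.app o = w'.α.toNatTrans.app o := Category.comp_id _
    rw [i1, i2] at e1
    exact e1
  have e2' : (ww ≫ (r.iso (Over.mk (g ≫ str T G)) (toPt G g)).hom.1) ≫
      ξ.map (om (𝟙 V.unop) (g' ≫ str T G) (g ≫ str T G) ht) =
      ww' ≫ (r.iso (Over.mk (g' ≫ str T G)) (toPt G g')).hom.1 := e2
  have hs : sec h𝒴 ξ G r g' = sec h𝒴 ξ G r g := by
    have hi : IsIso ww := K741.isIso_two_cell_app h𝒴 w.α o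
    have e3 : (r.iso (Over.mk (g ≫ str T G)) (toPt G g)).hom.1 ≫
        ξ.map (om (𝟙 V.unop) (g' ≫ str T G) (g ≫ str T G) ht) =
        ξ.map (om (𝟙 V.unop) (g' ≫ str T G) (g ≫ str T G) ht) ≫
          (r.iso (Over.mk (g' ≫ str T G)) (toPt G g')).hom.1 := by
      rw [← cancel_epi ww, ← Category.assoc, e2', ← e1', Category.assoc]
    have e4 : (I h𝒴 ξ ξ).map (𝟙 V.unop).op (sec h𝒴 ξ G r g') = sec h𝒴 ξ G r g :=
      (isoPsh_map_eq_iff h𝒴).2 ⟨ht, ht, e3⟩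
    have e5 : (I h𝒴 ξ ξ).map (𝟙 V.unop).op (sec h𝒴 ξ G r g') = sec h𝒴 ξ G r g' := by
      rw [op_id, (I h𝒴 ξ ξ).map_id]
      rfl
    exact e5.symm.trans e4
  exact (sec_injective h𝒴 ξ G r hs).symm

theorem exists_aut {S : Scheme.{u}} {𝒴 : AlgSt.Cat S} (h𝒴 : FibCat.IsFibGrpd 𝒴.p) {T : Over S}
    (ξ : FibCat.overCat T ⥤ᵇ 𝒴) (G : Over T.left) [GrpObj G] (r : Gerb.AutRep ξ (Gerb.ptsGrp T G)) :
    ∃ (e : K741.Ch 𝒴) (l₁ l₂ : e ⟶ K741.ofChart ξ) (i : e.F ≅ (AlgSp.yon S).obj (Over.mk (G.hom ≫ T.hom))),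
      l₁.a = l₂.a ∧ l₁.a = i.hom ≫ (AlgSp.yon S).map (Over.homMk G.hom rfl) ∧
      ∀ (t : K741.Ch 𝒴) (m₁ m₂ : t ⟶ K741.ofChart ξ), m₁.a = m₂.a → ∃! w : t ⟶ e, w ≫ l₁ = m₁ ∧ w ≫ l₂ = m₂ := by
  refine ⟨eCh ξ G, l₁ ξ G, l₂ ξ G r, Iso.refl _, rfl, (Category.id_comp _).symm, ?_⟩
  rintro t ⟨a, α⟩ ⟨b, β⟩ (rfl : a = b)
  obtain ⟨c, rfl, hc⟩ := exists_cls ξ G r h𝒴 α β
  have h1 := comp_l₁ ξ G c α
  have h2 := (comp_l₂_iff ξ G r h𝒴 c α β).2 hc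
  exact ⟨(⟨c, α⟩ : K741.Ch.Hom t (eCh ξ G)), ⟨h1, h2⟩, fun w' hw' =>
    lift_ext ξ G h𝒴 r (hw'.1.trans h1.symm) (hw'.2.trans h2.symm)⟩

end K394.AutCh
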